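import Groth.Agent.Lib.FrobImg2.Quot
import Groth.Agent.Lib.SemiAbExp2.Props
import Groth.Agent.Lib.EtSite.FpqcDescent
import Groth.Agent.Lib.IsogFactor19.Basic
import Groth.Agent.Lib.GenSubgrp14.Basic
import Groth.Agent.Lib.Torsor21.SmoothSection
import Groth.Agent.Lib.PseudoCompl.Descend
import Groth.Agent.Lib.KerDiag14.Basic
import Groth.Agent.Lib.MonoHom.ClosedImmersion
import Groth.Agent.Lib.SepPts.Basic
import Mathlib.AlgebraicGeometry.AlgClosed.Basic

/-!
# Finite subgroups meeting every component of a smooth commutative group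
-/

set_option autoImplicit false
set_option linter.all false
set_option backward.isDefEq.respectTransparency false
set_option maxHeartbeats 1000000

universe u

open CategoryTheory CategoryTheory.Limits MonoidalCategory CartesianMonoidalCategory MonObj GrpObj
open AlgebraicGeometry

namespace GrothLib.FinSupp2

variable {k : Type u} [Field k]

/-- The geometric point. -/
noncomputable def Kbar (k : Type u) [Field k] : Over (Spec (CommRingCat.of k)) :=
  Over.mk (Spec.map (CommRingCat.ofHom (algebraMap k (AlgebraicClosure k))))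

theorem finite_hom_field (L : Type u) [Field L] [Algebra k L] [FiniteDimensional k L] :
    Finite (Kbar k ⟶ Over.mk (Spec.map (CommRingCat.ofHom (algebraMap k L)))) := by
  let ev : (Kbar k ⟶ Over.mk (Spec.map (CommRingCat.ofHom (algebraMap k L)))) → (L →ₐ[k] AlgebraicClosure k) :=
    fun x => { (Spec.preimage x.left).hom with
      commutes' := fun r => by
        have h : CommRingCat.ofHom (algebraMap k L) ≫ Spec.preimage x.left =
            CommRingCat.ofHom (algebraMap k (AlgebraicClosure k)) := by
          apply Spec.map_injective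
          rw [Spec.map_comp, Spec.map_preimage]
          exact Over.w x
        exact congr(($h).hom r) }
  refine Finite.of_injective ev fun x y hxy => Over.OverMorphism.ext ?_
  rw [← Spec.map_preimage x.left, ← Spec.map_preimage y.left]
  congr 1
  ext r
  exact congr($hxy r)

/-- Every point of a finite scheme is a geometric point. -/
theorem exists_kbar_point (W : Over (Spec (CommRingCat.of k))) [IsFinite W.hom] (w : W.left) :
    ∃ x : Kbar k ⟶ W, w ∈ Set.range x.left := by
  let φ := Spec.map (CommRingCat.ofHom (algebraMap k (AlgebraicClosure k)))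
  obtain ⟨z, hz, -⟩ := Scheme.Pullback.exists_preimage_pullback (f := W.hom) (g := φ) w
    (IsLocalRing.closedPoint (AlgebraicClosure k)) (Subsingleton.elim (α := PrimeSpectrum k) _ _)
  haveI : IsFinite (pullback.snd W.hom φ) := MorphismProperty.pullback_snd _ _ inferInstance
  haveI : DiscreteTopology (pullback W.hom φ : Scheme.{u}) := by
    have := (pullback.snd W.hom φ).isDiscrete_preimage (s := Set.univ) (by
      haveI : DiscreteTopology ↥(Spec (CommRingCat.of (AlgebraicClosure k))) :=
        inferInstanceAs (DiscreteTopology (PrimeSpectrum (AlgebraicClosure k)))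
      exact isDiscrete_univ_iff.mpr inferInstance)
    rw [Set.preimage_univ] at this
    exact isDiscrete_univ_iff.mp this
  have hzc : IsClosed ({z} : Set (pullback W.hom φ : Scheme.{u})) := isClosed_discrete _
  let σ := pointOfClosedPoint (pullback.snd W.hom φ) z hzc
  refine ⟨Over.homMk (σ ≫ pullback.fst W.hom φ) ?_, IsLocalRing.closedPoint (AlgebraicClosure k), ?_⟩
  · rw [Category.assoc, pullback.condition, ← Category.assoc,
      pointOfClosedPoint_comp (pullback.snd W.hom φ) z hzc]
    exact Category.id_comp φ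
  · show pullback.fst W.hom φ (σ _) = w
    rw [pointOfClosedPoint_apply (pullback.snd W.hom φ) z hzc, hz]

/-- A group with open origin is finite. -/
theorem isFinite_of_isOpen_unit (Q : Over (Spec (CommRingCat.of k))) [GrpObj Q] [LocallyOfFiniteType Q.hom]
    [QuasiCompact Q.hom] (h : IsOpen (Set.range η[Q].left)) : IsFinite Q.hom := by
  let φ := Spec.map (CommRingCat.ofHom (algebraMap k (AlgebraicClosure k)))
  haveI : LocallyOfFiniteType (Red.bc φ Q).hom := inferInstanceAs (LocallyOfFiniteType (pullback.snd Q.hom φ))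
  haveI : QuasiCompact (Red.bc φ Q).hom := inferInstanceAs (QuasiCompact (pullback.snd Q.hom φ))
  haveI : IsSeparated Q.hom := GrpSchField.isSeparated Q
  haveI : IsClosedImmersion η[Q].left := GrothLib.DiagGrp.isClosedImmersion_one Q
  haveI : Subsingleton (𝟙_ (Over (Spec (CommRingCat.of k)))).left := inferInstanceAs (Subsingleton (PrimeSpectrum k))
  haveI : Subsingleton (𝟙_ (Over (Spec (CommRingCat.of (AlgebraicClosure k))))).left :=
    inferInstanceAs (Subsingleton (PrimeSpectrum (AlgebraicClosure k)))
  haveI hfin : IsFinite (Red.bc φ Q).hom := by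
    refine SemiAbExp2.isFinite_of_isOpen_one _ ?_
    let m := (Over.pullback φ).map η[Q]
    have hm : Set.range m.left = (pullback.fst Q.hom φ) ⁻¹' Set.range η[Q].left := by
      show Set.range (pullback.lift (pullback.fst (𝟙_ (Over (Spec (CommRingCat.of k)))).hom φ ≫ η[Q].left)
        (pullback.snd (𝟙_ (Over (Spec (CommRingCat.of k)))).hom φ) _) = _
      have := Scheme.Pullback.range_map (f := (𝟙_ (Over (Spec (CommRingCat.of k)))).hom) (g := φ) Q.hom φ η[Q].left
        (𝟙 _) (𝟙 _) (by rw [Category.comp_id, Over.w]) (by simp)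
      rw [pullback.map] at this
      simpa using this
    have hη : Set.range η[Red.bc φ Q].left = Set.range m.left := by
      show Set.range (Functor.LaxMonoidal.ε (Over.pullback φ) ≫ m).left = _
      rw [Over.comp_left, Scheme.Hom.comp_base, TopCat.coe_comp, Set.range_comp]
      haveI : IsIso (Functor.LaxMonoidal.ε (Over.pullback φ)).left :=
        inferInstanceAs (IsIso ((Over.forget _).map (Functor.LaxMonoidal.ε (Over.pullback φ))))
      rw [(Functor.LaxMonoidal.ε (Over.pullback φ)).left.surjective.range_eq, Set.image_univ]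
    rw [hη, hm]
    exact h.preimage (pullback.fst Q.hom φ).continuous
  haveI : Surjective φ := ⟨fun s => ⟨IsLocalRing.closedPoint _, Subsingleton.elim (α := PrimeSpectrum k) _ _⟩⟩
  haveI : Flat φ := GrothLib.AlgSp.flat_to_field φ
  exact MorphismProperty.of_isPullback_of_descendsAlong (P := @IsFinite) (Q := EtSite.fpqcCov)
    (IsPullback.of_hasPullback Q.hom φ).flip ⟨⟨inferInstance, inferInstance⟩, inferInstance⟩ hfin

/-- A finite commutative group is killed by a positive integer. -/
theorem exists_pow_eq_one (Q : Over (Spec (CommRingCat.of k))) [GrpObj Q] [IsCommMonObj Q]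
    [IsFinite Q.hom] : ∃ n : ℕ, 0 < n ∧ (𝟙 Q : Q ⟶ Q) ^ n = 1 := by
  haveI : IsMonHom (toUnit Q) := inferInstance
  haveI : IsFinite (toUnit Q).left := inferInstanceAs (IsFinite Q.hom)
  haveI : Flat (toUnit Q).left := GrothLib.AlgSp.flat_to_field Q.hom
  haveI : LocallyOfFinitePresentation (toUnit Q).left := inferInstanceAs (LocallyOfFinitePresentation Q.hom)
  haveI : Subsingleton (𝟙_ (Over (Spec (CommRingCat.of k)))).left := inferInstanceAs (Subsingleton (PrimeSpectrum k))
  let n := Scheme.Hom.finrank (toUnit Q).left (η[𝟙_ (Over (Spec (CommRingCat.of k)))].left (IsLocalRing.closedPoint k))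
  have hker : AlgGrp.IsKernel (𝟙 Q) (toUnit Q) := by
    refine ⟨⟨toUnit_unique _ _⟩, ⟨PullbackCone.IsLimit.mk _ (fun z => z.fst) (fun z => Category.comp_id _)
      (fun z => toUnit_unique _ _) (fun z m h1 h2 => by simpa using h1)⟩⟩
  refine ⟨n, ?_, GrpDeligne.kernel_pow_eq_one (toUnit Q) n
    (fun s => congrArg _ (Subsingleton.elim _ _)) (𝟙 Q) hker⟩
  haveI : Surjective (toUnit Q).left := ⟨fun s => ⟨η[Q].left s, Subsingleton.elim _ _⟩⟩
  exact (Scheme.Hom.one_le_finrank_iff_surjective (toUnit Q).left).2 inferInstance _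

variable {G : Over (Spec (CommRingCat.of k))} [GrpObj G]

/-- The words in finitely many finite geometric families killed by a fixed integer are finite in number. -/
theorem finite_wordSet [IsCommMonObj G] {m : ℕ} (hm : 0 < m) (hpow : (𝟙 G : G ⟶ G) ^ m = 1)
    {J : Type u} [Finite J] (L : J → Type u) [∀ j, Field (L j)] [∀ j, Algebra k (L j)]
    [∀ j, FiniteDimensional k (L j)]
    (c : ∀ j, Over.mk (Spec.map (CommRingCat.ofHom (algebraMap k (L j)))) ⟶ G)
    (Gen : ∀ A : Over (Spec (CommRingCat.of k)), (A ⟶ G) → Prop)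
    (hGen : ∀ A f, Gen A f → ∃ (j : J) (e : A ≅ Over.mk (Spec.map (CommRingCat.ofHom (algebraMap k (L j))))),
      f = e.hom ≫ c j) :
    (GenSubgrp14.wordSet Gen).Finite := by
  let P : Set (Kbar k ⟶ G) := ⋃ j, Set.range fun x => x ≫ c j
  have hP : P.Finite := Set.finite_iUnion fun j => by
    haveI := finite_hom_field (k := k) (L j)
    exact Set.finite_range _
  let H : Subgroup (Kbar k ⟶ G) := Subgroup.closure P
  haveI : Finite H := by
    haveI : Group.FG H := (Group.fg_iff_subgroup_fg H).mpr ⟨hP.toFinset, by rw [hP.coe_toFinset]⟩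
    refine CommGroup.finite_of_fg_torsion H fun x => isOfFinOrder_iff_pow_eq_one.mpr ⟨m, hm, ?_⟩
    apply Subtype.ext
    show (x.1) ^ m = 1
    rw [← Category.comp_id x.1, ← MonObj.comp_pow, hpow, MonObj.comp_one]
  have hF : ∀ (W : Over (Spec (CommRingCat.of k))) (w : W ⟶ G), GenSubgrp14.IsWord Gen W w →
      IsFinite W.hom ∧ ∀ x : Kbar k ⟶ W, x ≫ w ∈ H := by
    intro W w hw
    induction hw with
    | one =>
      refine ⟨inferInstanceAs (IsFinite (𝟙 (Spec (CommRingCat.of k)))), fun x => ?_⟩
      rw [MonObj.one_eq_one, MonObj.comp_one]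
      exact one_mem H
    | @of A f hf =>
      obtain ⟨j, e, rfl⟩ := hGen A f hf
      refine ⟨?_, fun x => ?_⟩
      · haveI : IsIso e.hom.left := inferInstanceAs (IsIso ((Over.forget _).map e.hom))
        haveI : IsFinite (Over.mk (Spec.map (CommRingCat.ofHom (algebraMap k (L j))))).hom := by
          show IsFinite (Spec.map (CommRingCat.ofHom (algebraMap k (L j))))
          rw [IsFinite.SpecMap_iff]
          exact RingHom.finite_algebraMap.mpr inferInstance
        rw [← Over.w e.hom]
        exact MorphismProperty.comp_mem _ _ _ inferInstance inferInstance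
      · exact Subgroup.subset_closure (Set.mem_iUnion.mpr ⟨j, x ≫ e.hom, Category.assoc _ _ _⟩)
    | @inv W w _ ih =>
      exact ⟨ih.1, fun x => by rw [GrpObj.comp_inv]; exact inv_mem (ih.2 x)⟩
    | @mul W W' w w' _ _ ih ih' =>
      refine ⟨?_, fun x => ?_⟩
      · haveI := ih.1; haveI := ih'.1
        exact inferInstanceAs (IsFinite (pullback.fst W.hom W'.hom ≫ W.hom))
      · rw [MonObj.comp_mul, ← Category.assoc, ← Category.assoc]
        exact mul_mem (ih.2 _) (ih'.2 _)
  let pt : H → G.left := fun x => x.1.left (IsLocalRing.closedPoint (AlgebraicClosure k))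
  refine (Set.finite_range pt).subset ?_
  rintro g ⟨W, w, hw, y, rfl⟩
  haveI := (hF W w hw).1
  obtain ⟨x, t, rfl⟩ := exists_kbar_point W y
  refine ⟨⟨x ≫ w, (hF W w hw).2 x⟩, ?_⟩
  haveI : Subsingleton (Kbar k).left := inferInstanceAs (Subsingleton (PrimeSpectrum (AlgebraicClosure k)))
  show (x ≫ w).left _ = _
  rw [Subsingleton.elim t (IsLocalRing.closedPoint (AlgebraicClosure k))]
  rfl

/-- A smooth commutative group killed by `m` has a finite closed subgroup meeting every nonempty open subscheme
from a given finite list. -/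
theorem exists_finite_subgroup_meeting [IsCommMonObj G] [Smooth G.hom] [QuasiCompact G.hom]
    {m : ℕ} (hm : 0 < m) (hpow : (𝟙 G : G ⟶ G) ^ m = 1) {J : Type u} [Finite J] (W : J → G.left.Opens)
    (hW : ∀ j, (W j : Set G.left).Nonempty) :
    ∃ (Z : Over (Spec (CommRingCat.of k))) (_ : GrpObj Z) (z : Z ⟶ G), IsMonHom z ∧ IsClosedImmersion z.left ∧
      IsFinite Z.hom ∧ ∀ j, ∃ x, z.left x ∈ W j := by
  have key : ∀ j, ∃ (L : Type u) (_ : Field L) (_ : Algebra k L), FiniteDimensional k L ∧ Algebra.IsSeparable k L ∧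
      ∃ c : Over.mk (Spec.map (CommRingCat.ofHom (algebraMap k L))) ⟶ G,
        Set.range c.left ⊆ (W j : Set G.left) := by
    intro j
    haveI : Nonempty ↥(W j).toScheme := ⟨⟨_, (hW j).some_mem⟩⟩
    obtain ⟨L, _, _, hfd, hsep, c, hc⟩ := Torsor21.exists_separable_point ((W j).ι ≫ G.hom)
    refine ⟨L, inferInstance, inferInstance, hfd, hsep,
      Over.homMk (c ≫ (W j).ι) (by rw [Category.assoc]; exact hc), ?_⟩
    rintro _ ⟨t, rfl⟩
    exact (c t).2
  choose L iF iA hfd hsep c hc using key
  let Gen : ∀ A : Over (Spec (CommRingCat.of k)), (A ⟶ G) → Prop := fun A f =>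
    ∃ (j : J) (e : A ≅ Over.mk (Spec.map (CommRingCat.ofHom (algebraMap k (L j))))), f = e.hom ≫ c j
  have hGen : ∀ A f, Gen A f → GeometricallyReduced A.hom := by
    rintro A f ⟨j, e, -⟩
    haveI := hsep j; haveI := hfd j
    haveI := GrothLib.PseudoCompl.isGeometricallyReduced_of_isSeparable (F := k) (L := L j)
    haveI : IsIso e.hom.left := inferInstanceAs (IsIso ((Over.forget _).map e.hom))
    rw [← Over.w e.hom]
    haveI : GeometricallyReduced (Spec.map (CommRingCat.ofHom (algebraMap k (L j)))) :=
      GrothLib.SepPts.geometricallyReduced_of_dense _ dense_univ fun ζ _ =>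
        ⟨L j, inferInstance, inferInstance, inferInstance, 𝟙 _, Category.id_comp _, ⟨ζ, rfl⟩⟩
    exact (MorphismProperty.cancel_left_of_respectsIso (@GeometricallyReduced) e.hom.left _).mpr ‹_›
  obtain ⟨E⟩ := GenSubgrp14.nonempty_envelope Gen hGen
  have hfin := finite_wordSet hm hpow L c Gen (fun A f h => h)
  letI := E.grp
  haveI := E.isMonHom; haveI := E.isClosedImmersion
  haveI : LocallyOfFiniteType E.Z.hom := by rw [← Over.w E.z]; infer_instance
  haveI : QuasiCompact E.Z.hom := by rw [← Over.w E.z]; infer_instance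
  have hcl : IsClosed (GenSubgrp14.wordSet Gen) := by
    rw [← Set.biUnion_of_singleton (GenSubgrp14.wordSet Gen)]
    refine hfin.isClosed_biUnion fun g hg => ?_
    obtain ⟨W', w', hw', y, rfl⟩ := hg
    haveI : IsFinite W'.hom := by
      clear hfin
      induction hw' with
      | one => exact inferInstanceAs (IsFinite (𝟙 (Spec (CommRingCat.of k))))
      | @of A f hf =>
        obtain ⟨j, e, -⟩ := hf
        haveI := hfd j
        haveI : IsIso e.hom.left := inferInstanceAs (IsIso ((Over.forget _).map e.hom))
        haveI : IsFinite (Over.mk (Spec.map (CommRingCat.ofHom (algebraMap k (L j))))).hom := by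
          show IsFinite (Spec.map (CommRingCat.ofHom (algebraMap k (L j))))
          rw [IsFinite.SpecMap_iff]
          exact RingHom.finite_algebraMap.mpr inferInstance
        rw [← Over.w e.hom]
        exact MorphismProperty.comp_mem _ _ _ inferInstance inferInstance
      | @inv W w _ ih => exact ih y
      | @mul W₁ W₂ w₁ w₂ _ _ ih₁ ih₂ =>
        haveI := ih₁ ((fst W₁ W₂).left y); haveI := ih₂ ((snd W₁ W₂).left y)
        exact inferInstanceAs (IsFinite (pullback.fst W₁.hom W₂.hom ≫ W₁.hom))
    obtain ⟨x, t, rfl⟩ := exists_kbar_point W' y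
    haveI : IsSeparated G.hom := GrpSchField.isSeparated G
    haveI : IsFinite w'.left := by
      haveI : IsFinite (w'.left ≫ G.hom) := by rw [Over.w w']; infer_instance
      exact IsFinite.of_comp w'.left G.hom
    haveI : DiscreteTopology W'.left := by
      have := W'.hom.isDiscrete_preimage (s := Set.univ) (by
        haveI : DiscreteTopology ↥(Spec (CommRingCat.of k)) := inferInstanceAs (DiscreteTopology (PrimeSpectrum k))
        exact isDiscrete_univ_iff.mpr inferInstance)
      rw [Set.preimage_univ] at this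
      exact isDiscrete_univ_iff.mp this
    rw [← Set.image_singleton]
    exact w'.left.isClosedMap _ (isClosed_discrete _)
  have hrange : Set.range E.z.left = GenSubgrp14.wordSet Gen := E.range_eq.trans hcl.closure_eq
  haveI : Finite E.Z.left := by
    haveI : Finite (GenSubgrp14.wordSet Gen) := hfin
    exact Finite.of_injective (fun x => (⟨E.z.left x, hrange ▸ ⟨x, rfl⟩⟩ : GenSubgrp14.wordSet Gen))
      fun a b h => E.z.left.isClosedEmbedding.injective (Subtype.ext_iff.mp h)
  haveI : DiscreteTopology E.Z.left := by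
    haveI : JacobsonSpace E.Z.left := LocallyOfFiniteType.jacobsonSpace E.Z.hom
    infer_instance
  refine ⟨E.Z, E.grp, E.z, inferInstance, inferInstance,
    isFinite_of_isOpen_unit E.Z (isOpen_discrete _), fun j => ?_⟩
  obtain ⟨l, hl⟩ := E.lift_word _ _ (GenSubgrp14.IsWord.of (Gen := Gen) (f := c j) ⟨j, Iso.refl _, by simp⟩)
  refine ⟨l.left (IsLocalRing.closedPoint (L j)), hc j ⟨IsLocalRing.closedPoint (L j), ?_⟩⟩
  rw [← hl]
  rfl

end GrothLib.FinSupp2
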