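import Groth.Agent.Lib.FinSupp2.Basic
import Groth.Agent.Lib.Chev24.Divisible
import Groth.Agent.Lib.SubPre14.Basic

/-!
# A finite subgroup with smooth connected quotient
-/

set_option autoImplicit false
set_option linter.all false
set_option backward.isDefEq.respectTransparency false
set_option maxHeartbeats 1000000

universe u

open CategoryTheory CategoryTheory.Limits MonoidalCategory CartesianMonoidalCategory MonObj GrpObj
open AlgebraicGeometry

namespace GrothLib.FinSupp2

variable {k : Type u} [Field k]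

/-- A homomorphism with finite kernel between groups of finite type is finite. -/
theorem isFinite_of_kernel {A B N : Over (Spec (CommRingCat.of k))} [GrpObj A] [GrpObj B] [GrpObj N]
    [LocallyOfFiniteType A.hom] [QuasiCompact A.hom] [LocallyOfFiniteType B.hom]
    (q : A ⟶ B) [IsMonHom q] (i : N ⟶ A) [IsMonHom i] (hk : AlgGrp.IsKernel i q) [IsFinite N.hom] :
    IsFinite q.left := by
  haveI : LocallyOfFiniteType q.left := by
    haveI : LocallyOfFiniteType (q.left ≫ B.hom) := by rw [Over.w q]; infer_instance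
    exact locallyOfFiniteType_of_comp q.left B.hom
  haveI : LocallyQuasiFinite q.left := (KerDiag14.lqf_iff q i hk).2.1.2 inferInstance
  exact MonoHom.isFinite_left q

theorem qc_left {X Y : Over (Spec (CommRingCat.of k))} [QuasiCompact X.hom] [IsSeparated Y.hom] (f : X ⟶ Y) :
    QuasiCompact f.left := by
  haveI : QuasiCompact (f.left ≫ Y.hom) := by rw [Over.w f]; infer_instance
  exact QuasiCompact.of_comp f.left Y.hom

theorem exists_isogeny (G : Over (Spec (CommRingCat.of k))) [GrpObj G] [IsCommMonObj G] [Smooth G.hom]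
    [QuasiCompact G.hom] :
    ∃ (Q : Over (Spec (CommRingCat.of k))) (_ : GrpObj Q) (q : G ⟶ Q), IsMonHom q ∧ Flat q.left ∧
      Surjective q.left ∧ IsFinite q.left ∧ Smooth Q.hom ∧ QuasiCompact Q.hom ∧ ConnectedSpace Q.left := by
  haveI : IsSeparated G.hom := GrpSchField.isSeparated G
  haveI : IsLocallyNoetherian G.left := LocallyOfFiniteType.isLocallyNoetherian G.hom
  haveI : CompactSpace G.left := QuasiCompact.compactSpace_of_compactSpace G.hom
  haveI : IsNoetherian G.left := ⟨⟩
  obtain ⟨G₀, _, j, hjm, hjo, hGc, hGirr, hGl⟩ := GrpExt19.exists_neutral G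
  haveI := hjm; haveI := hjo; haveI := hGl; haveI := hGirr
  haveI : IsClosedImmersion j.left := IsClosedImmersion.of_isPreimmersion j.left
    (GrpSchField.isClosed_range_of_isLocallyClosed j j.left.isOpenEmbedding.isOpen_range.isLocallyClosed)
  haveI : Mono j := Over.mono_of_mono_left j
  obtain ⟨C, _, c, hc, hCl, hCq, hcf, hcs, hcker⟩ :=
    LargestSub2.exists_quot j (fun T g n => ⟨n, by rw [mul_comm g, mul_inv_cancel_right]⟩)
  haveI := hc; haveI := hCl; haveI := hCq; haveI := hcf; haveI := hcs
  haveI : IsSeparated C.hom := GrpSchField.isSeparated C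
  haveI : QuasiCompact c.left := by
    haveI : QuasiCompact (c.left ≫ C.hom) := by rw [Over.w c]; infer_instance
    exact QuasiCompact.of_comp c.left C.hom
  haveI : LocallyOfFiniteType c.left := by
    haveI : LocallyOfFiniteType (c.left ≫ C.hom) := by rw [Over.w c]; infer_instance
    exact locallyOfFiniteType_of_comp c.left C.hom
  haveI : IsLocallyNoetherian C.left := LocallyOfFiniteType.isLocallyNoetherian C.hom
  haveI : Epi c := SemiAbExp2.epi_of_fppf c
  haveI : IsCommMonObj C := AlgGrp14.isCommMonObj_of_epi c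
  haveI hCfin : IsFinite C.hom := by
    refine isFinite_of_isOpen_unit C ?_
    have : Set.range η[C].left = c.left '' Set.range j.left := by
      haveI : Subsingleton (𝟙_ (Over (Spec (CommRingCat.of k)))).left :=
        inferInstanceAs (Subsingleton (PrimeSpectrum k))
      rw [← Set.range_comp, ← TopCat.coe_comp, ← Scheme.Hom.comp_base, ← Over.comp_left,
        GrpDeligne.ker_comp_eq_one hcker, Hom.one_def, Over.comp_left, Scheme.Hom.comp_base, TopCat.coe_comp,
        Set.range_comp]
      haveI : Surjective (toUnit G₀).left := ⟨fun x => ⟨η[G₀].left (IsLocalRing.closedPoint k), Subsingleton.elim _ _⟩⟩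
      rw [(toUnit G₀).left.surjective.range_eq, Set.image_univ]
    rw [this]
    exact c.left.isOpenMap _ j.left.isOpenEmbedding.isOpen_range
  haveI : DiscreteTopology C.left := by
    have := C.hom.isDiscrete_preimage (s := Set.univ) (by
      haveI : DiscreteTopology ↥(Spec (CommRingCat.of k)) := inferInstanceAs (DiscreteTopology (PrimeSpectrum k))
      exact isDiscrete_univ_iff.mpr inferInstance)
    rw [Set.preimage_univ] at this
    exact isDiscrete_univ_iff.mp this
  haveI : CompactSpace C.left := QuasiCompact.compactSpace_of_compactSpace C.hom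
  haveI : Finite C.left := finite_of_compact_of_discrete
  obtain ⟨e, he, heC⟩ := exists_pow_eq_one C
  haveI hpm : ∀ n : ℕ, IsMonHom ((𝟙 G : G ⟶ G) ^ n) := fun n => GrpDeligne.isMonHom_pow (𝟙 G) n
  haveI hpq : ∀ n : ℕ, QuasiCompact ((𝟙 G : G ⟶ G) ^ n).left := fun n => qc_left _
  -- stabilisation of the images of the powers
  obtain ⟨N, hN⟩ : ∃ N : ℕ, Set.range ((𝟙 G : G ⟶ G) ^ e ^ N).left ⊆ Set.range ((𝟙 G : G ⟶ G) ^ e ^ (N + 1)).left := by
    let R : ℕ → TopologicalSpace.Closeds G.left := fun n =>
      ⟨Set.range ((𝟙 G : G ⟶ G) ^ e ^ n).left, Neutral.isClosed_range_hom _⟩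
    obtain ⟨_, ⟨N, rfl⟩, hmin⟩ := (wellFounded_lt (α := TopologicalSpace.Closeds G.left)).has_min (Set.range R)
      (Set.range_nonempty R)
    refine ⟨N, ?_⟩
    have hle : R (N + 1) ≤ R N := by
      have h2 : (𝟙 G : G ⟶ G) ^ e ^ (N + 1) = ((𝟙 G : G ⟶ G) ^ e) ≫ ((𝟙 G : G ⟶ G) ^ e ^ N) := by
        rw [MonObj.comp_pow, Category.comp_id, ← pow_mul, ← pow_succ']
      show Set.range ((𝟙 G : G ⟶ G) ^ e ^ (N + 1)).left ⊆ _
      rw [h2]
      exact GenSubgrp14.range_subset_of_comp _ _
    have := eq_of_le_of_not_lt hle (hmin _ ⟨N + 1, rfl⟩)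
    exact (congrArg SetLike.coe this).ge
  -- the killed subgroup
  let a := e ^ N
  obtain ⟨K, _, i, hi, hic, hik⟩ := IsogFactor19.exists_kernel ((𝟙 G : G ⟶ G) ^ a)
  haveI := hi; haveI := hic
  haveI : Mono i := Over.mono_of_mono_left i
  haveI : LocallyOfFiniteType K.hom := by rw [← Over.w i]; infer_instance
  haveI : QuasiCompact K.hom := by rw [← Over.w i]; infer_instance
  haveI : IsCommMonObj K := AlgGrp14.isCommMonObj_of_mono i
  have hKsurj : Surjective (i ≫ c).left := by
    let P := pullback ((𝟙 G : G ⟶ G) ^ a) ((𝟙 G : G ⟶ G) ^ e ^ (N + 1))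
    let x : P ⟶ G := pullback.fst _ _
    let y : P ⟶ G := pullback.snd _ _
    have hxy : x ^ a = y ^ e ^ (N + 1) := by
      have h := pullback.condition (f := (𝟙 G : G ⟶ G) ^ a) (g := (𝟙 G : G ⟶ G) ^ e ^ (N + 1))
      rwa [MonObj.comp_pow, MonObj.comp_pow, Category.comp_id, Category.comp_id] at h
    obtain ⟨l, hl⟩ := GrpSchField.exists_lift_of_comp_eq_one hik (x * (y ^ e)⁻¹) (by
      rw [MonObj.comp_pow, Category.comp_id, mul_pow, hxy, inv_pow, ← pow_mul, ← pow_succ', mul_inv_cancel])
    have hxc : x ≫ c = l ≫ (i ≫ c) := by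
      rw [← Category.assoc, hl, MonObj.mul_comp, GrpObj.inv_comp, MonObj.pow_comp]
      have : (y ≫ c) ^ e = 1 := by
        rw [← Category.comp_id (y ≫ c), ← MonObj.comp_pow, heC, MonObj.comp_one]
      rw [this, inv_one, _root_.mul_one]
    haveI : Surjective x.left := by
      constructor
      intro g
      obtain ⟨g', hg'⟩ := hN ⟨g, rfl⟩
      obtain ⟨t, ht, -⟩ := Scheme.exists_preimage_of_isPullback
        ((IsPullback.of_hasPullback ((𝟙 G : G ⟶ G) ^ a) ((𝟙 G : G ⟶ G) ^ e ^ (N + 1))).map (Over.forget _))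
        g g' hg'.symm
      exact ⟨t, ht⟩
    haveI : Surjective (l.left ≫ (i ≫ c).left) := by
      rw [← Over.comp_left, ← hxc, Over.comp_left]; infer_instance
    exact Surjective.of_comp l.left _
  -- smooth quotient of the killed subgroup
  obtain ⟨H, _, h, K₁, _, π, hh, hhc, hHfin, hHconn, hπ, hπf, hπs, hπk, hK₁s, hπq, hK₁q⟩ :=
    FrobImg2.exists_smooth_quot K
  haveI := hh; haveI := hhc; haveI := hHfin; haveI := hHconn; haveI := hπ; haveI := hπf; haveI := hπs
  haveI := hK₁s; haveI := hπq; haveI : QuasiCompact K₁.hom := hK₁q inferInstance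
  haveI : IsLocallyNoetherian K₁.left := LocallyOfFiniteType.isLocallyNoetherian K₁.hom
  haveI : LocallyOfFiniteType π.left := by
    haveI : LocallyOfFiniteType (π.left ≫ K₁.hom) := by rw [Over.w π]; infer_instance
    exact locallyOfFiniteType_of_comp π.left K₁.hom
  haveI : Epi π := SemiAbExp2.epi_of_fppf π
  haveI : IsCommMonObj K₁ := AlgGrp14.isCommMonObj_of_epi π
  haveI : IsFinite π.left := isFinite_of_kernel π h hπk
  have ha : 0 < a := pow_pos he N
  have hKpow : (𝟙 K : K ⟶ K) ^ a = 1 := by
    rw [← cancel_mono i, MonObj.one_comp, MonObj.pow_comp, Category.id_comp, ← Category.comp_id i,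
      ← MonObj.comp_pow]
    exact GrpDeligne.ker_comp_eq_one hik
  have hK₁pow : (𝟙 K₁ : K₁ ⟶ K₁) ^ a = 1 := by
    rw [← cancel_epi π, MonObj.comp_one, MonObj.comp_pow, Category.comp_id, ← Category.id_comp π,
      ← MonObj.pow_comp, hKpow, MonObj.one_comp]
  -- opens of the smooth quotient above the components
  haveI : UniversallyOpen π.left := inferInstance
  let W : C.left → K₁.left.Opens := fun z => ⟨π.left '' ((i ≫ c).left ⁻¹' {z}),
    π.left.isOpenMap _ ((isOpen_discrete _).preimage (i ≫ c).left.continuous)⟩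
  obtain ⟨Z, _, z, hz, hzc, hZfin, hZW⟩ := exists_finite_subgroup_meeting (G := K₁) ha hK₁pow W
    (fun p => by
      obtain ⟨x, hx⟩ := hKsurj.1 p
      exact ⟨π.left x, x, hx, rfl⟩)
  haveI := hz; haveI := hzc; haveI := hZfin
  haveI : Mono z := Over.mono_of_mono_left z
  let E := pullback z π
  let b : E ⟶ K := pullback.snd z π
  let a' : E ⟶ Z := pullback.fst z π
  obtain ⟨gE, ha', hb⟩ := SubPre14.exists_grpObj_pullback π z a' b (IsPullback.of_hasPullback z π)
  letI := gE; haveI := ha'; haveI := hb
  have sqE := (IsPullback.of_hasPullback z π).map (Over.forget (Spec (CommRingCat.of k)))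
  haveI : IsClosedImmersion b.left := MorphismProperty.of_isPullback (P := @IsClosedImmersion) sqE ‹_›
  haveI : IsFinite a'.left := MorphismProperty.of_isPullback (P := @IsFinite) sqE.flip ‹_›
  haveI : IsFinite E.hom := by rw [← Over.w a']; infer_instance
  haveI : IsClosedImmersion (b ≫ i).left := inferInstanceAs (IsClosedImmersion (b.left ≫ i.left))
  obtain ⟨Q, _, q, hq, hQs, hQq, hqf, hqs, hqe, hqk⟩ :=
    Chev24.exists_quot (b ≫ i) (fun T g n => ⟨n, by rw [mul_comm g, mul_inv_cancel_right]⟩)
  haveI := hq; haveI := hQs; haveI := hQq; haveI := hqf; haveI := hqs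
  refine ⟨Q, inferInstance, q, hq, hqf, hqs, isFinite_of_kernel q (b ≫ i) hqk, hQs, hQq, ?_⟩
  -- the finite subgroup meets every component
  have hEsurj : Surjective (b ≫ i ≫ c).left := by
    constructor
    intro p
    obtain ⟨w, u, hu, huw⟩ := hZW p
    obtain ⟨t, -, htb⟩ := Scheme.exists_preimage_of_isPullback sqE w u huw.symm
    refine ⟨t, ?_⟩
    show (i ≫ c).left (b.left t) = p
    exact (congrArg (i ≫ c).left htb).trans hu
  -- translates by the finite subgroup cover the group
  let P := pullback c (b ≫ i ≫ c)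
  let x : P ⟶ G := pullback.fst _ _
  let y : P ⟶ E := pullback.snd _ _
  haveI : Surjective x.left := MorphismProperty.of_isPullback (P := @Surjective)
    ((IsPullback.of_hasPullback c (b ≫ i ≫ c)).map (Over.forget _)).flip hEsurj
  obtain ⟨l, hl⟩ := GrpSchField.exists_lift_of_comp_eq_one hcker (x * (y ≫ b ≫ i)⁻¹) (by
    rw [MonObj.mul_comp, GrpObj.inv_comp, pullback.condition]
    simp only [Category.assoc, y]
    rw [mul_inv_cancel])
  have hxq : x ≫ q = l ≫ (j ≫ q) := by
    rw [← Category.assoc, hl, MonObj.mul_comp, GrpObj.inv_comp, Category.assoc,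
      GrpDeligne.ker_comp_eq_one hqk, MonObj.comp_one, inv_one, _root_.mul_one]
  haveI : Surjective (l.left ≫ (j ≫ q).left) := by
    rw [← Over.comp_left, ← hxq, Over.comp_left]; infer_instance
  haveI : Surjective (j ≫ q).left := Surjective.of_comp l.left _
  exact (j ≫ q).left.surjective.connectedSpace (j ≫ q).left.continuous

end GrothLib.FinSupp2
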